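import Groth.Agent.L23.LocAcycSets.Step
import Groth.Agent.L23.GenConn.Scheme
import Groth.Agent.L23.GeomUnibranchSH
import Groth.Agent.L23.StalkBranch
import Groth.Agent.L27.BigSets.H0
import Groth.Agent.L27.EtSite.DescTop
import Groth.Agent.L10.EtSecPull.Basic
import Groth.Prelude.Def_EtAcyc
import Mathlib.AlgebraicGeometry.IdealSheaf.Functorial
import Mathlib.AlgebraicGeometry.Noetherian

/-! # Generic bijectivity of sections of constructible sheaves of sets over Milnor fibres -/

universe u

open CategoryTheory CategoryTheory.Limits AlgebraicGeometry Opposite IsLocalRing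

set_option autoImplicit false
set_option maxHeartbeats 400000
set_option maxSynthPendingDepth 3
set_option backward.isDefEq.respectTransparency.types false
set_option linter.style.haveILetI false
set_option linter.unusedSectionVars false
set_option linter.unusedVariables false

noncomputable section

namespace Groth.L23.LocAcycSets

open Groth.L27.BigSets
open Groth.L27.Fppf (cT)

/-- The part of a Milnor fibre over a closed subscheme is a Milnor fibre of the subscheme. -/
theorem isConnected_milnor_closed {X₁ W₁ S₁ : Scheme.{u}} (i : W₁ ⟶ X₁) [IsClosedImmersion i] (g₁ : X₁ ⟶ S₁)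
    (hconn : ShConnected (i ≫ g₁)) (w : W₁)
    (RS RX : Type u) [CommRing RS] [CommRing RX] [IsLocalRing RS] [IsLocalRing RX]
    [Algebra (S₁.presheaf.stalk (g₁.base (i.base w))) RS]
    [IsLocalHom (algebraMap (S₁.presheaf.stalk (g₁.base (i.base w))) RS)]
    [Hensel.IsStrictHenselization (S₁.presheaf.stalk (g₁.base (i.base w))) RS]
    [Algebra (X₁.presheaf.stalk (i.base w)) RX] [IsLocalHom (algebraMap (X₁.presheaf.stalk (i.base w)) RX)]
    [Hensel.IsStrictHenselization (X₁.presheaf.stalk (i.base w)) RX]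
    (ψ : RS →+* RX) [IsLocalHom ψ]
    (hψ : ψ.comp (algebraMap (S₁.presheaf.stalk (g₁.base (i.base w))) RS) =
      (algebraMap (X₁.presheaf.stalk (i.base w)) RX).comp (g₁.stalkMap (i.base w)).hom)
    (Ω : Type u) [Field Ω] (η : Spec (CommRingCat.of Ω) ⟶ Spec (CommRingCat.of RS)) :
    _root_.IsConnected ((pullback.fst (Spec.map (CommRingCat.ofHom ψ)) η ≫
      Spec.map (CommRingCat.ofHom (algebraMap (X₁.presheaf.stalk (i.base w)) RX)) ≫
        X₁.fromSpecStalk (i.base w)) ⁻¹' Set.range i) := by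
  let O := X₁.presheaf.stalk (i.base w)
  let OW := W₁.presheaf.stalk w
  let φ : O →+* OW := (i.stalkMap w).hom
  have hφ : Function.Surjective φ := i.stalkMap_surjective w
  let I : Ideal O := RingHom.ker φ
  let J : Ideal RX := I.map (algebraMap O RX)
  have hI : I ≠ ⊤ := RingHom.ker_ne_top φ
  have hJle : J ≤ maximalIdeal RX :=
    (Ideal.map_mono (le_maximalIdeal hI)).trans (IsLocalRing.map_maximalIdeal_le (algebraMap O RX))
  have hJ : J ≠ ⊤ := fun h => (maximalIdeal.isMaximal RX).ne_top (top_le_iff.1 (h ▸ hJle))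
  haveI : Nontrivial (O ⧸ I) := Ideal.Quotient.nontrivial_iff.2 hI
  haveI : Nontrivial (RX ⧸ J) := Ideal.Quotient.nontrivial_iff.2 hJ
  haveI : IsLocalRing (O ⧸ I) := IsLocalRing.of_surjective' _ Ideal.Quotient.mk_surjective
  haveI : IsLocalRing (RX ⧸ J) := IsLocalRing.of_surjective' _ Ideal.Quotient.mk_surjective
  haveI : IsLocalHom (algebraMap (O ⧸ I) (RX ⧸ J)) := by
    refine ⟨fun a ha => ?_⟩
    obtain ⟨a, rfl⟩ := Ideal.Quotient.mk_surjective a
    haveI : IsLocalHom (Ideal.Quotient.mk J) := IsLocalHom.of_surjective _ Ideal.Quotient.mk_surjective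
    exact (isUnit_of_map_unit (algebraMap O RX) a
      (isUnit_of_map_unit (Ideal.Quotient.mk J) _ ha)).map (Ideal.Quotient.mk I)
  haveI hq : Hensel.IsStrictHenselization (O ⧸ I) (RX ⧸ J) := SH.isStrictHenselization_quotient I
  let e : (O ⧸ I) ≃+* OW := RingHom.quotientKerEquivOfSurjective hφ
  letI : Algebra OW (RX ⧸ J) := ((algebraMap (O ⧸ I) (RX ⧸ J)).comp e.symm.toRingHom).toAlgebra
  haveI : IsLocalHom (algebraMap OW (RX ⧸ J)) := ⟨fun a ha => by
    have h1 := isUnit_of_map_unit (algebraMap (O ⧸ I) (RX ⧸ J)) (e.symm a) ha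
    have h2 := h1.map e
    rwa [RingEquiv.apply_symm_apply] at h2⟩
  haveI : Hensel.IsStrictHenselization OW (RX ⧸ J) :=
    SH.isStrictHenselization_of_baseEquiv (R := O ⧸ I) e.symm (fun x => rfl)
  have hφm : ∀ a : O, algebraMap OW (RX ⧸ J) (φ a) = Ideal.Quotient.mk J (algebraMap O RX a) := fun a => by
    show algebraMap (O ⧸ I) (RX ⧸ J) (e.symm (φ a)) = _
    rw [show φ a = e (Ideal.Quotient.mk I a) from rfl, RingEquiv.symm_apply_apply]
    rfl
  let ψW : RS →+* RX ⧸ J := (Ideal.Quotient.mk J).comp ψ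
  haveI : IsLocalHom (Ideal.Quotient.mk J) := IsLocalHom.of_surjective _ Ideal.Quotient.mk_surjective
  haveI : IsLocalHom ψW := RingHom.isLocalHom_comp _ _
  letI : Algebra (S₁.presheaf.stalk ((i ≫ g₁).base w)) RS :=
    inferInstanceAs (Algebra (S₁.presheaf.stalk (g₁.base (i.base w))) RS)
  haveI : IsLocalHom (algebraMap (S₁.presheaf.stalk ((i ≫ g₁).base w)) RS) :=
    inferInstanceAs (IsLocalHom (algebraMap (S₁.presheaf.stalk (g₁.base (i.base w))) RS))
  haveI : Hensel.IsStrictHenselization (S₁.presheaf.stalk ((i ≫ g₁).base w)) RS :=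
    inferInstanceAs (Hensel.IsStrictHenselization (S₁.presheaf.stalk (g₁.base (i.base w))) RS)
  have hψW : ψW.comp (algebraMap (S₁.presheaf.stalk ((i ≫ g₁).base w)) RS) =
      (algebraMap OW (RX ⧸ J)).comp ((i ≫ g₁).stalkMap w).hom := by
    refine RingHom.ext fun a => ?_
    show Ideal.Quotient.mk J (ψ (algebraMap (S₁.presheaf.stalk (g₁.base (i.base w))) RS a)) =
      algebraMap OW (RX ⧸ J) (((i ≫ g₁).stalkMap w).hom a)
    rw [Scheme.Hom.stalkMap_comp]
    refine Eq.trans ?_ (hφm _).symm
    exact congrArg (Ideal.Quotient.mk J) (DFunLike.congr_fun hψ a)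
  haveI := GenConn.connectedSpace_pullback_field (Spec.map (CommRingCat.ofHom ψW))
    (fun K _ _ θ => hconn w RS (RX ⧸ J) ψW hψW K θ) Ω η
  let qm : Spec (CommRingCat.of (RX ⧸ J)) ⟶ Spec (CommRingCat.of RX) :=
    Spec.map (CommRingCat.ofHom (Ideal.Quotient.mk J))
  let sψ := Spec.map (CommRingCat.ofHom ψ)
  let sψW := Spec.map (CommRingCat.ofHom ψW)
  have hsψ : qm ≫ sψ = sψW := (Spec.map_comp _ _).symm
  let m : pullback sψW η ⟶ pullback sψ η :=
    pullback.lift (pullback.fst sψW η ≫ qm) (pullback.snd sψW η) (by rw [Category.assoc, hsψ, pullback.condition])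
  have hm : IsPullback m (pullback.fst sψW η) (pullback.fst sψ η) qm := by
    refine IsPullback.of_right ?_ (pullback.lift_fst _ _ _) (IsPullback.of_hasPullback sψ η).flip
    rw [pullback.lift_snd, hsψ]
    exact (IsPullback.of_hasPullback sψW η).flip
  have hrange : Set.range qm = (Spec.map (CommRingCat.ofHom (algebraMap O RX)) ≫ X₁.fromSpecStalk (i.base w)) ⁻¹'
      Set.range i := by
    ext p
    constructor
    · rintro ⟨p', rfl⟩
      have h1 : qm ≫ Spec.map (CommRingCat.ofHom (algebraMap O RX)) =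
          Spec.map (CommRingCat.ofHom (algebraMap OW (RX ⧸ J))) ≫ Spec.map (i.stalkMap w) := by
        rw [← Spec.map_comp, ← Spec.map_comp]
        exact congrArg Spec.map (CommRingCat.hom_ext (RingHom.ext fun a => (hφm a).symm))
      refine ⟨(Spec.map (CommRingCat.ofHom (algebraMap OW (RX ⧸ J))) ≫ W₁.fromSpecStalk w) p', ?_⟩
      rw [← Scheme.Hom.comp_apply, ← Scheme.Hom.comp_apply, Category.assoc, ← Scheme.SpecMap_stalkMap_fromSpecStalk,
        ← Category.assoc, ← h1, Category.assoc]
    · rintro ⟨z', hz'⟩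
      rw [Scheme.Hom.comp_apply] at hz'
      let q := (Spec.map (CommRingCat.ofHom (algebraMap O RX))) p
      have hz : i z' = X₁.fromSpecStalk (i.base w) q := hz'
      have hsp : i z' ⤳ i w := by
        rw [hz]
        have : X₁.fromSpecStalk (i.base w) q ∈ Set.range (X₁.fromSpecStalk (i.base w)) := ⟨q, rfl⟩
        rwa [Scheme.range_fromSpecStalk] at this
      have hsp' : z' ⤳ w := i.isClosedEmbedding.isInducing.specializes_iff.1 hsp
      obtain ⟨q', hq'⟩ : z' ∈ Set.range (W₁.fromSpecStalk w) := by rw [Scheme.range_fromSpecStalk]; exact hsp'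
      have hqq : Spec.map (i.stalkMap w) q' = q := by
        refine (X₁.fromSpecStalk (i.base w)).isEmbedding.injective ?_
        rw [← hz, ← hq', ← Scheme.Hom.comp_apply, ← Scheme.Hom.comp_apply, Scheme.SpecMap_stalkMap_fromSpecStalk]
      have hIq : I ≤ p.asIdeal.comap (algebraMap O RX) := fun a ha => by
        have h2 : q.asIdeal = q'.asIdeal.comap φ := congrArg PrimeSpectrum.asIdeal hqq.symm
        show a ∈ q.asIdeal
        rw [h2, Ideal.mem_comap, (RingHom.mem_ker.1 ha)]
        exact zero_mem _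
      have hJp : p ∈ PrimeSpectrum.zeroLocus (J : Set RX) :=
        (PrimeSpectrum.mem_zeroLocus _ _).2 (Ideal.map_le_iff_le_comap.2 hIq)
      have hJp' : p ∈ Set.range (PrimeSpectrum.comap (Ideal.Quotient.mk J)) := by
        rw [range_comap_of_surjective _ _ Ideal.Quotient.mk_surjective, Ideal.mk_ker]
        exact hJp
      exact hJp'
  have hmr : Set.range m = (pullback.fst sψ η ≫ Spec.map (CommRingCat.ofHom (algebraMap O RX)) ≫
      X₁.fromSpecStalk (i.base w)) ⁻¹' Set.range i := by
    ext z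
    constructor
    · rintro ⟨z₀, rfl⟩
      show (pullback.fst sψ η ≫ _) (m z₀) ∈ Set.range i
      rw [Scheme.Hom.comp_apply, ← Scheme.Hom.comp_apply m, hm.w, Scheme.Hom.comp_apply]
      exact (Set.ext_iff.1 hrange _).1 ⟨_, rfl⟩
    · intro hz
      have hz2 : pullback.fst sψ η z ∈ Set.range qm := (Set.ext_iff.1 hrange _).2 (by
        rw [Set.mem_preimage, ← Scheme.Hom.comp_apply]
        exact hz)
      obtain ⟨p', hp'⟩ := hz2
      obtain ⟨z₀, hz₀, -⟩ := Scheme.exists_preimage_of_isPullback hm z p' hp'.symm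
      exact ⟨z₀, hz₀⟩
  rw [← hmr]
  exact isConnected_range m.continuous

section

variable {X : Scheme.{u}} (F : EtDesc.Sh X)

/-- A nonempty closed subset contains a nonempty relatively open subset inside one stratum. -/
theorem exists_stratum [IsNoetherian X] (hF : CohProp.IsConstructibleSet F) (W : Set X) (hW : IsClosed W)
    (hne : W.Nonempty) :
    ∃ W' C : Set X, IsClosed W' ∧ W' ⊂ W ∧ W \ W' ⊆ C ∧ Triv F C := by
  haveI : Nonempty W := hne.to_subtype
  let K : Set W := irreducibleComponent (Classical.arbitrary W)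
  have hK : K ∈ irreducibleComponents W := irreducibleComponent_mem_irreducibleComponents _
  obtain ⟨o, ho, hone, hoK⟩ := TopologicalSpace.NoetherianSpace.exists_isOpen_nonempty_subset_irreducibleComponent K hK
  obtain ⟨O, hO, rfl⟩ := isOpen_induced_iff.1 ho
  let K' : Set X := Subtype.val '' K
  have hK' : IsIrreducible K' := hK.1.image _ continuous_subtype_val.continuousOn
  have hKcl : IsClosed K' := hW.isClosedEmbedding_subtypeVal.isClosedMap _ (isClosed_of_mem_irreducibleComponents K hK)
  let η := hK'.genericPoint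
  have hη : closure {η} = K' := hK'.genericPoint_closure_eq.trans hKcl.closure_eq
  obtain ⟨o₀, ho₀⟩ := hone
  have ho₀K : o₀.1 ∈ K' := ⟨o₀, hoK ho₀, rfl⟩
  have hηO : η ∈ O := (specializes_iff_mem_closure.2 (hη.symm ▸ ho₀K)).mem_open hO ho₀
  have hηW : η ∈ W := by
    have h1 : η ∈ K' := hη ▸ subset_closure rfl
    obtain ⟨w, -, hw⟩ := h1
    exact hw ▸ w.2
  obtain ⟨U, hU, hηU, -⟩ := exists_isAffineOpen_mem_and_subset (X := X) (x := η) (U := ⊤) trivial
  obtain ⟨n, T, g, hg, -, -, hunion, hfl⟩ := hF U hU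
  obtain ⟨j, hj⟩ := Set.mem_iUnion.1 ((Set.ext_iff.1 hunion η).2 hηU)
  haveI := hg j
  obtain ⟨O₂, D, hO₂, hD, hOD⟩ := (g j).isLocallyClosed_range
  have hηOD : η ∈ O₂ ∩ D := hOD ▸ hj
  refine ⟨W \ (O ∩ O₂), Set.range (g j), hW.sdiff (hO.inter hO₂),
    Set.sdiff_subset.ssubset_of_ne fun he => ((Set.ext_iff.1 he η).2 hηW).2 ⟨hηO, hηOD.1⟩, ?_,
    triv_range F (g j) (hfl j)⟩
  rintro z ⟨hzW, hz⟩
  have hz' : z ∈ O ∩ O₂ := by by_contra h; exact hz ⟨hzW, h⟩
  have hzK : z ∈ K' := ⟨⟨z, hzW⟩, hoK hz'.1, rfl⟩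
  rw [hOD]
  exact ⟨hz'.2, closure_minimal (Set.singleton_subset_iff.2 hηOD.2) hD (hη.symm ▸ hzK)⟩

/-- The conclusion over a dense open of the base, for the sections near a closed subset. -/
theorem exists_dense_open_concl {S : Scheme.{u}} (f : X ⟶ S) [IsNoetherian S] [LocallyOfFiniteType f]
    [QuasiCompact f] (hF : CohProp.IsConstructibleSet F) (W : TopologicalSpace.Closeds X) :
    ∃ U : S.Opens, Dense (U : Set S) ∧
      ∀ ⦃X' S' : Scheme.{u}⦄ (b : S' ⟶ S), Set.range b.base ⊆ (U : Set S) →
        ∀ (f' : X' ⟶ S') (b' : X' ⟶ X), IsPullback b' f' f b →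
        ∀ (x : X') (RS RX : Type u) [CommRing RS] [CommRing RX] [HenselianLocalRing RX]
          [IsSepClosed (ResidueField RX)] [IsLocalRing RS]
          [Algebra (S'.presheaf.stalk (f'.base x)) RS] [IsLocalHom (algebraMap (S'.presheaf.stalk (f'.base x)) RS)]
          [Hensel.IsStrictHenselization (S'.presheaf.stalk (f'.base x)) RS]
          [Algebra (X'.presheaf.stalk x) RX] [IsLocalHom (algebraMap (X'.presheaf.stalk x) RX)]
          [Hensel.IsStrictHenselization (X'.presheaf.stalk x) RX]
          [Algebra RS RX] [IsLocalHom (algebraMap RS RX)],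
          (algebraMap RS RX).comp (algebraMap (S'.presheaf.stalk (f'.base x)) RS) =
            (algebraMap (X'.presheaf.stalk x) RX).comp (f'.stalkMap x).hom →
          ∀ (Ω : Type u) [Field Ω] (η : Spec (CommRingCat.of Ω) ⟶ Spec (CommRingCat.of RS)),
            Concl (F := F) RX (Spec.map (CommRingCat.ofHom (algebraMap (X'.presheaf.stalk x) RX)) ≫
                X'.fromSpecStalk x ≫ b')
              (pullback.fst (Spec.map (CommRingCat.ofHom (algebraMap RS RX))) η) W := by
  haveI : IsLocallyNoetherian X := LocallyOfFiniteType.isLocallyNoetherian f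
  haveI : CompactSpace X := QuasiCompact.compactSpace_of_compactSpace f
  haveI : IsNoetherian X := {}
  induction W using WellFoundedLT.induction with
  | _ W ih =>
  by_cases hne : (W : Set X).Nonempty
  swap
  · refine ⟨⊤, dense_univ, ?_⟩
    intro X' S' b _ f' b' _ x RS RX _ _ _ _ _ _ _ _ _ _ _ _ _ _ Ω _ η hx
    exact absurd ⟨_, hx⟩ hne
  obtain ⟨W', C, hW', hlt, hC, hCt⟩ := exists_stratum F hF W W.isClosed hne
  obtain ⟨U₁, hU₁, h₁⟩ := ih ⟨W', hW'⟩ (show (W' : Set X) ⊂ W from hlt)
  let i : _ ⟶ X := (Scheme.IdealSheafData.vanishingIdeal W).subschemeι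
  have hi : Set.range i = W := by
    rw [Scheme.IdealSheafData.range_subschemeι, Scheme.IdealSheafData.coe_support_vanishingIdeal]
  obtain ⟨U₂, hU₂, h₂⟩ := GenConn.exists_dense_open_shConnected (i ≫ f)
  refine ⟨U₁ ⊓ U₂, hU₁.inter_of_isOpen_left hU₂ U₁.2, ?_⟩
  intro X' S' b hb f' b' hsq x RS RX _ _ _ _ _ _ _ _ _ _ _ _ _ hψ Ω _ η
  refine concl_step RX _ _ hW' hlt.subset hC hCt (fun hx => ?_)
    (h₁ b (hb.trans Set.inter_subset_left) f' b' hsq x RS RX hψ Ω η)
  let i' := pullback.fst b' i
  have hi' : Set.range i' = b' ⁻¹' W := by rw [Scheme.Pullback.range_fst, hi]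
  have hsqW : IsPullback (pullback.snd b' i) (i' ≫ f') (i ≫ f) b :=
    (IsPullback.of_hasPullback b' i).flip.paste_vert hsq
  have hxW : x ∈ Set.range i' := by
    rw [hi']
    show b' x ∈ (W : Set X)
    rwa [Scheme.Hom.comp_apply, Scheme.Hom.comp_apply,
      show (Spec.map (CommRingCat.ofHom (algebraMap (X'.presheaf.stalk x) RX))) (closedPoint RX) =
        closedPoint (X'.presheaf.stalk x) from IsLocalRing.comap_closedPoint _,
      Scheme.fromSpecStalk_closedPoint] at hx
  obtain ⟨w, rfl⟩ := hxW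
  have := isConnected_milnor_closed i' f' (h₂ b (hb.trans Set.inter_subset_right) _ _ hsqW).2 w RS RX
    (algebraMap RS RX) hψ Ω η
  rw [hi'] at this
  convert this using 1
  simp [Set.preimage]

/-- Bijectivity of restriction in the big sheaf gives bijectivity of pullback of sections. -/
theorem bijective_secPull {T Z : Scheme.{u}} (π : T ⟶ X) (h : Z ⟶ T)
    (hb : Function.Bijective ((G F).obj.map (Over.homMk h rfl : Over.mk (h ≫ π) ⟶ Over.mk π).op)) :
    Function.Bijective (EtDesc.secPull h ((EtDesc.pullSh π).obj F)) := by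
  haveI := isIso_theta π F
  have key : Function.Bijective (EtDesc.secPull h (GT π F)) := by
    let W₀ := (EtCoh.bc h).obj (EtCoh.top T)
    haveI := isIso_psi₂ π F h
    have hψ : Function.Bijective ((psi₂ π F h).hom.app (op W₀)) :=
      ConcreteCategory.bijective_of_isIso (((sheafToPresheaf _ _).map (psi₂ π F h)).app (op W₀))
    let q' : (cT π).obj (EtCoh.top T) ⟶ Over.mk π := Over.homMk (𝟙 T) rfl
    let q : Over.mk π ⟶ (cT π).obj (EtCoh.top T) := Over.homMk (𝟙 T) ((Category.id_comp _).trans (Category.id_comp π))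
    let E := (cT (h ≫ π)).obj W₀
    let l : E ⟶ Over.mk (h ≫ π) := Over.homMk (pullback.snd (𝟙 T) h) rfl
    let l' : Over.mk (h ≫ π) ⟶ E := Over.homMk (pullback.lift h (𝟙 Z) ((Category.comp_id _).trans (Category.id_comp _).symm))
      ((Category.assoc _ _ _).symm.trans ((congrArg (· ≫ h ≫ π) (pullback.lift_snd _ _ _)).trans (Category.id_comp _)))
    let r : Over.mk (h ≫ π) ⟶ Over.mk π := Over.homMk h rfl
    have e₁ : proj π h (EtCoh.top T) = l ≫ r ≫ q := by
      apply Over.OverMorphism.ext
      show pullback.fst (𝟙 T) h = pullback.snd (𝟙 T) h ≫ h ≫ 𝟙 T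
      rw [Category.comp_id, ← pullback.condition, Category.comp_id]
    have bij : ∀ {A B : Over X} (a : A ⟶ B) (c : B ⟶ A), a ≫ c = 𝟙 _ → c ≫ a = 𝟙 _ →
        Function.Bijective ((G F).obj.map a.op) := fun a c h1 h2 =>
      Function.bijective_iff_has_inverse.2 ⟨(G F).obj.map c.op,
        fun y => by rw [map_comp', h2, map_id'], fun y => by rw [map_comp', h1, map_id']⟩
    have hq : Function.Bijective ((G F).obj.map q.op) :=
      bij q q' (Over.OverMorphism.ext (Category.comp_id _)) (Over.OverMorphism.ext (Category.comp_id _))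
    have hl : Function.Bijective ((G F).obj.map l.op) := by
      refine bij l l' (Over.OverMorphism.ext (pullback.hom_ext ?_ ?_)) (Over.OverMorphism.ext (pullback.lift_snd _ _ _))
      · show (pullback.snd (𝟙 T) h ≫ pullback.lift h (𝟙 Z) _) ≫ pullback.fst _ _ = 𝟙 _ ≫ pullback.fst _ _
        rw [Category.assoc, pullback.lift_fst, ← pullback.condition, Category.comp_id, Category.id_comp]
      · show (pullback.snd (𝟙 T) h ≫ pullback.lift h (𝟙 Z) _) ≫ pullback.snd _ _ = 𝟙 _ ≫ pullback.snd _ _
        rw [Category.assoc, pullback.lift_snd, Category.comp_id, Category.id_comp]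
    have hp : Function.Bijective ((G F).obj.map (proj π h (EtCoh.top T)).op) := by
      have : (fun x => (G F).obj.map (proj π h (EtCoh.top T)).op x) =
          fun x => (G F).obj.map l.op ((G F).obj.map r.op ((G F).obj.map q.op x)) := funext fun x => by
        rw [map_comp', map_comp', e₁, Category.assoc]
      have h3 := hl.comp (hb.comp hq)
      rw [show (G F).obj.map l.op ∘ (G F).obj.map r.op ∘ (G F).obj.map q.op = _ from this.symm] at h3
      exact h3
    have hη : Function.Bijective (((EtDesc.adjSh h).unit.app (GT π F)).hom.app (op (EtCoh.top T))) := by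
      refine (Function.Bijective.of_comp_iff' hψ _).1 ?_
      have : (fun x => (psi₂ π F h).hom.app (op W₀)
          (((EtDesc.adjSh h).unit.app (GT π F)).hom.app (op (EtCoh.top T)) x)) =
          fun x => (G F).obj.map (proj π h (EtCoh.top T)).op x := funext fun x => psi₂_eta π F h _ x
      exact (congrArg Function.Bijective this).mpr hp
    exact (ConcreteCategory.bijective_of_isIso
      (((EtDesc.pullSh h).obj (GT π F)).obj.map (EtCore.bcTopIso h).inv.op)).comp hη
  let θ := theta π F
  have hθ : Function.Bijective (θ.hom.app (op (EtCoh.top T))) :=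
    ConcreteCategory.bijective_of_isIso (((sheafToPresheaf _ _).map θ).app (op (EtCoh.top T)))
  have hθ' : Function.Bijective (((EtDesc.pullSh h).map θ).hom.app (op (EtCoh.top Z))) :=
    ConcreteCategory.bijective_of_isIso (((sheafToPresheaf _ _).map ((EtDesc.pullSh h).map θ)).app (op (EtCoh.top Z)))
  have : (fun s => ((EtDesc.pullSh h).map θ).hom.app (op (EtCoh.top Z))
      (EtDesc.secPull h ((EtDesc.pullSh π).obj F) s)) =
      fun s => EtDesc.secPull h (GT π F) (θ.hom.app (op (EtCoh.top T)) s) :=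
    funext fun s => (L10.EtSecPull.secPull_naturality h θ s).symm
  refine (Function.Bijective.of_comp_iff' hθ' _).1 ?_
  exact (congrArg Function.Bijective this).mpr (key.comp hθ)

end

end Groth.L23.LocAcycSets
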