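import Groth.Agent.L27.BigSets.Pull
import Groth.Agent.L27.EtSite.StrictLocal
import Groth.Prelude.Def_CohProp

/-! # Trivializing sections of the big sheaf over strata of locally constant sheaves of sets -/

universe u

open CategoryTheory CategoryTheory.Limits AlgebraicGeometry Opposite

set_option autoImplicit false
set_option backward.isDefEq.respectTransparency.types false
set_option linter.style.haveILetI false
set_option linter.unusedSectionVars false

noncomputable section

namespace Groth.L23.LocAcycSets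

open Groth.L27.BigSets
open Groth.L27.Fppf (cT pr exists_pullback comp_left_apply etale_comp)

variable {X : Scheme.{u}} (F : EtDesc.Sh X)

theorem eqNear_symm {T : Over X} {x y : (G F).obj.obj (op T)} {t : T.left} (h : EqNear F x y t) :
    EqNear F y x t := by
  obtain ⟨T', g, t', hg, ht, he⟩ := h
  exact ⟨T', g, t', hg, ht, he.symm⟩

theorem eqNear_trans {T : Over X} {x y z : (G F).obj.obj (op T)} {t : T.left} (h : EqNear F x y t)
    (h' : EqNear F y z t) : EqNear F x z t := by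
  obtain ⟨T₁, g₁, t₁, hg₁, ht₁, he₁⟩ := h
  obtain ⟨T₂, g₂, t₂, hg₂, ht₂, he₂⟩ := h'
  obtain ⟨P, a, b, hab, hP, -⟩ := exists_pullback g₁ g₂
  obtain ⟨p, hp, -⟩ := Scheme.exists_preimage_of_isPullback hP t₁ t₂ (ht₁.trans ht₂.symm)
  haveI := hg₁
  haveI : AlgebraicGeometry.Etale a.left := MorphismProperty.of_isPullback (P := EtCoh.etaleMP.{u}) hP.flip hg₂
  refine ⟨P, a ≫ g₁, p, etale_comp _ _, by rw [comp_left_apply, hp, ht₁], ?_⟩
  conv_rhs => rw [hab]
  rw [← map_comp' F a g₁, he₁, map_comp', hab, ← map_comp' F b g₂, he₂, map_comp']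

/-- Sections over `U` which give, near every point, exactly one representative for each section. -/
structure Basis (U : Over X) (M : Type (u + 1)) where
  Φ : M → (G F).obj.obj (op U)
  exists_near : ∀ {T : Over X} (h : T ⟶ U) (x : (G F).obj.obj (op T)) (t : T.left),
    ∃ a, EqNear F x ((G F).obj.map h.op (Φ a)) t
  eq_of_eqNear : ∀ (a b : M) (u : U.left), EqNear F (Φ a) (Φ b) u → a = b

variable {F}

theorem Basis.eq_of_near {U : Over X} {M : Type (u + 1)} (β : Basis F U M) {T : Over X} (h : T ⟶ U)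
    {x : (G F).obj.obj (op T)} {t : T.left} {a b : M} (ha : EqNear F x ((G F).obj.map h.op (β.Φ a)) t)
    (hb : EqNear F x ((G F).obj.map h.op (β.Φ b)) t) : a = b :=
  β.eq_of_eqNear a b (h.left t) (EqNear.of_map F h _ _ t (eqNear_trans F (eqNear_symm F ha) hb))

variable (F)

/-- A locally closed subset over which the big sheaf has finite bases of sections etale locally. -/
def Triv (C : Set X) : Prop :=
  ∃ (Z : Scheme.{u}) (g : Z ⟶ X), IsImmersion g ∧ Set.range g = C ∧
    ∀ z : Z, ∃ (U : Over X) (q : U ⟶ Over.mk g) (v : U.left) (M : Type (u + 1)),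
      AlgebraicGeometry.Etale q.left ∧ q.left v = z ∧ Finite M ∧ Nonempty (Basis F U M)

section

variable {Z : Scheme.{u}} (g : Z ⟶ X)

theorem exists_basis (U : Z.Etale) (M : Type (u + 1))
    (e : ((EtDesc.pullSh g).obj F).over U ≅ (CohProp.constSh Z M).over U) :
    Nonempty (Basis F ((cT g).obj U) M) := by
  haveI := isIso_theta g F
  let H := (EtDesc.pullSh g).obj F
  let Θ : ∀ W : Z.Etale, H.obj.obj (op W) → (G F).obj.obj (op ((cT g).obj W)) :=
    fun W => (theta g F).hom.app (op W)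
  have hΘ : ∀ W, Function.Bijective (Θ W) := fun W =>
    ConcreteCategory.bijective_of_isIso (((sheafToPresheaf _ _).map (theta g F)).app (op W))
  have hΘn : ∀ {W W' : Z.Etale} (j : W' ⟶ W) (s : H.obj.obj (op W)),
      (G F).obj.map ((cT g).map j).op (Θ W s) = Θ W' (H.obj.map j.op s) := fun j s =>
    (NatTrans.naturality_apply (theta g F).hom j.op s).symm
  let cst : ∀ W : Z.Etale, M → (CohProp.constSh Z M).obj.obj (op W) := fun W a =>
    (toSheafify Z.smallEtaleTopology ((Functor.const Z.Etaleᵒᵖ).obj M)).app (op W) a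
  have hcst : ∀ {W W' : Z.Etale} (j : W' ⟶ W) (a : M),
      (CohProp.constSh Z M).obj.map j.op (cst W a) = cst W' a := fun {W W'} j a =>
    (NatTrans.naturality_apply (toSheafify Z.smallEtaleTopology ((Functor.const Z.Etaleᵒᵖ).obj M)) j.op a).symm
  let ε : ∀ {W : Z.Etale}, (W ⟶ U) → H.obj.obj (op W) → (CohProp.constSh Z M).obj.obj (op W) :=
    fun k => e.hom.hom.app (op (Over.mk k))
  let ι : ∀ {W : Z.Etale}, (W ⟶ U) → (CohProp.constSh Z M).obj.obj (op W) → H.obj.obj (op W) :=
    fun k => e.inv.hom.app (op (Over.mk k))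
  have hιε : ∀ {W : Z.Etale} (k : W ⟶ U) (s : H.obj.obj (op W)), ι k (ε k s) = s := fun {W} k s => by
    have := congrArg (fun z : (H.over U) ⟶ (H.over U) => z.hom.app (op (Over.mk k)) s) e.hom_inv_id
    exact this
  have hει : ∀ {W : Z.Etale} (k : W ⟶ U) (s : (CohProp.constSh Z M).obj.obj (op W)), ε k (ι k s) = s :=
    fun {W} k s => by
    have := congrArg (fun z : ((CohProp.constSh Z M).over U) ⟶ ((CohProp.constSh Z M).over U) =>
      z.hom.app (op (Over.mk k)) s) e.inv_hom_id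
    exact this
  have hεn : ∀ {W W' : Z.Etale} (k : W ⟶ U) (j : W' ⟶ W) (s : H.obj.obj (op W)),
      ε (j ≫ k) (H.obj.map j.op s) = (CohProp.constSh Z M).obj.map j.op (ε k s) := fun k j s =>
    NatTrans.naturality_apply e.hom.hom (Over.homMk j : Over.mk (j ≫ k) ⟶ Over.mk k).op s
  have hιn : ∀ {W W' : Z.Etale} (k : W ⟶ U) (j : W' ⟶ W) (s : (CohProp.constSh Z M).obj.obj (op W)),
      ι (j ≫ k) ((CohProp.constSh Z M).obj.map j.op s) = H.obj.map j.op (ι k s) := fun k j s =>
    NatTrans.naturality_apply e.inv.hom (Over.homMk j : Over.mk (j ≫ k) ⟶ Over.mk k).op s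
  let Φ : M → (G F).obj.obj (op ((cT g).obj U)) := fun a => Θ U (ι (𝟙 U) (cst U a))
  have hΦ : ∀ {W : Z.Etale} (k : W ⟶ U) (a : M),
      (G F).obj.map ((cT g).map k).op (Φ a) = Θ W (ι k (cst W a)) := fun {W} k a => by
    rw [hΘn, ← hιn, hcst, Category.comp_id]
  refine ⟨⟨Φ, fun {T} h x t => ?_, fun a b v hv => ?_⟩⟩
  · obtain ⟨T', g₁, t', V, c, s, hg₁, ht, hs⟩ := exists_e F x t
    let Vz : Z.Etale := (EtCoh.bc g).obj V
    haveI : AlgebraicGeometry.Etale U.hom := U.prop
    haveI : AlgebraicGeometry.Etale Vz.hom := Vz.prop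
    let W₀ : Z.Etale := Scheme.Etale.mk (pullback.fst Vz.hom U.hom ≫ Vz.hom)
    let k₁ : W₀ ⟶ Vz := MorphismProperty.Over.homMk (pullback.fst Vz.hom U.hom) rfl
    let k₂ : W₀ ⟶ U := MorphismProperty.Over.homMk (pullback.snd Vz.hom U.hom) pullback.condition.symm
    let w : (G F).obj.obj (op ((cT g).obj W₀)) := L27.BigSets.e F ((cT g).map k₁ ≫ pr g V) s
    let hl : T'.left ⟶ U.left := (g₁ ≫ h).left
    have hlw : (hl ≫ U.hom) ≫ g = T'.hom := (Category.assoc _ _ _).trans (Over.w (g₁ ≫ h))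
    let m : T'.left ⟶ Vz.left := pullback.lift c.left (hl ≫ U.hom) ((Over.w c).trans hlw.symm)
    have hm : m ≫ Vz.hom = hl ≫ U.hom := pullback.lift_snd _ _ _
    let lw : T'.left ⟶ W₀.left := pullback.lift m hl hm
    have hlw₁ : lw ≫ pullback.fst Vz.hom U.hom = m := pullback.lift_fst _ _ _
    let l : T' ⟶ (cT g).obj W₀ := Over.homMk lw (by
      show lw ≫ (pullback.fst Vz.hom U.hom ≫ Vz.hom) ≫ g = T'.hom
      exact ((Category.assoc _ _ _).symm.trans (congrArg (· ≫ g) ((Category.assoc _ _ _).symm.trans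
        ((congrArg (· ≫ Vz.hom) hlw₁).trans hm)))).trans hlw)
    have hl₁ : l ≫ (cT g).map k₁ ≫ pr g V = c := Over.OverMorphism.ext (by
      show lw ≫ pullback.fst Vz.hom U.hom ≫ pullback.fst V.hom g = c.left
      exact (Category.assoc _ _ _).symm.trans ((congrArg (· ≫ pullback.fst V.hom g) hlw₁).trans
        (pullback.lift_fst _ _ _)))
    have hl₂ : l ≫ (cT g).map k₂ = g₁ ≫ h := Over.OverMorphism.ext (pullback.lift_snd _ _ _)
    obtain ⟨z, hz⟩ := (hΘ W₀).2 w
    obtain ⟨W₁, j, w₁, ⟨a, ha⟩, hw₁⟩ := (L27.EtSite.mem_topology_iff _).1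
      (Presheaf.imageSieve_mem Z.smallEtaleTopology
        (toSheafify Z.smallEtaleTopology ((Functor.const Z.Etaleᵒᵖ).obj M)) (ε k₂ z)) (lw t')
    refine ⟨a, ?_⟩
    obtain ⟨Q, q₁, q₂, hq, hQ, -⟩ := exists_pullback l ((cT g).map j)
    obtain ⟨p, hp, -⟩ := Scheme.exists_preimage_of_isPullback hQ t' w₁ hw₁.symm
    haveI : AlgebraicGeometry.Etale ((cT g).map j).left := L27.EtSite.etale_left j
    haveI : AlgebraicGeometry.Etale q₁.left :=
      MorphismProperty.of_isPullback (P := EtCoh.etaleMP.{u}) hQ.flip ‹AlgebraicGeometry.Etale ((cT g).map j).left›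
    haveI := hg₁
    refine ⟨Q, q₁ ≫ g₁, p, etale_comp _ _, by rw [comp_left_apply, hp, ht], ?_⟩
    have h1 : ε (j ≫ k₂) (H.obj.map j.op z) = cst W₁ a := by rw [hεn]; exact ha.symm
    have h2 : (G F).obj.map ((cT g).map j).op w = (G F).obj.map ((cT g).map (j ≫ k₂)).op (Φ a) := by
      rw [← hz, hΘn, hΦ, ← h1, hιε]
    have h3 : (G F).obj.map l.op w = L27.BigSets.e F c s := by
      rw [e_map, hl₁]
    rw [map_comp' F, Category.assoc, ← hl₂, ← Category.assoc, hq, Category.assoc, ← Functor.map_comp,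
      ← map_comp' F q₂, ← h2, ← map_comp' F q₁ g₁ x, hs, ← h3, map_comp', map_comp', hq]
  · obtain ⟨T', g₁, t', hg₁, -, he⟩ := hv
    let gl : T'.left ⟶ U.left := g₁.left
    haveI : AlgebraicGeometry.Etale gl := hg₁
    haveI : AlgebraicGeometry.Etale U.hom := U.prop
    let W₁ : Z.Etale := Scheme.Etale.mk (gl ≫ U.hom)
    let k : W₁ ⟶ U := MorphismProperty.Over.homMk gl rfl
    let i : (cT g).obj W₁ ⟶ T' := Over.homMk (𝟙 T'.left)
      ((Category.id_comp _).trans ((Over.w g₁).symm.trans (Category.assoc _ _ _).symm))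
    have hi : i ≫ g₁ = (cT g).map k := Over.OverMorphism.ext (Category.id_comp _)
    have h1 : Θ W₁ (ι k (cst W₁ a)) = Θ W₁ (ι k (cst W₁ b)) := by
      rw [← hΦ, ← hΦ, ← hi, ← map_comp', ← map_comp', he]
    have h2 : cst W₁ a = cst W₁ b := by
      rw [← hει k (cst W₁ a), (hΘ W₁).1 h1, hει]
    obtain ⟨W₂, j, w₂, hj, -⟩ := (L27.EtSite.mem_topology_iff _).1
      (Presheaf.equalizerSieve_mem Z.smallEtaleTopology
        (toSheafify Z.smallEtaleTopology ((Functor.const Z.Etaleᵒᵖ).obj M)) a b h2) t'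
    exact hj

/-- A stratum on which the inverse image is locally constant with finite values has bases of sections. -/
theorem triv_range [IsImmersion g] (h : CohProp.IsFinLocConstSet ((EtDesc.pullSh g).obj F)) :
    Triv F (Set.range g) := by
  obtain ⟨ι, U, hU, hM⟩ := h
  refine ⟨Z, g, inferInstance, rfl, fun z => ?_⟩
  obtain ⟨i, v, hv⟩ := hU z
  obtain ⟨M, hfin, ⟨e⟩⟩ := hM i
  exact ⟨(cT g).obj (U i), Over.homMk (U i).hom rfl, v, M, (U i).prop, hv, hfin, exists_basis F g (U i) M e⟩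

end

end Groth.L23.LocAcycSets
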