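import Groth.Agent.L23.LocAcycSets.Basis

/-! # The inductive step: sections over strictly local schemes and over their Milnor fibres -/

universe u

open CategoryTheory CategoryTheory.Limits AlgebraicGeometry Opposite IsLocalRing

set_option autoImplicit false
set_option backward.isDefEq.respectTransparency.types false
set_option linter.style.haveILetI false
set_option linter.unusedSectionVars false

noncomputable section

namespace Groth.L23.LocAcycSets

open Groth.L27.BigSets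
open Groth.L27.Fppf (cT pr exists_pullback comp_left_apply etale_comp)

variable {X : Scheme.{u}} {F : EtDesc.Sh X}

/-- Disagreement is open along a stratum with bases. -/
theorem exists_open_ne {C : Set X} (hC : Triv F C) {T : Over X} (x y : (G F).obj.obj (op T)) (t : T.left)
    (htC : T.hom t ∈ C) (hne : ¬ EqNear F x y t) :
    ∃ O : Set T.left, IsOpen O ∧ t ∈ O ∧ ∀ t' ∈ O, T.hom t' ∈ C → ¬ EqNear F x y t' := by
  obtain ⟨Z, g, hg, rfl, hbasis⟩ := hC
  obtain ⟨R, a, b, -, hR, -⟩ := exists_pullback (C := Over.mk (𝟙 X))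
    (Over.homMk T.hom (Category.comp_id _) : T ⟶ Over.mk (𝟙 X))
    (Over.homMk g (Category.comp_id _) : Over.mk g ⟶ Over.mk (𝟙 X))
  haveI := hg
  haveI : IsImmersion a.left := MorphismProperty.of_isPullback (P := @IsImmersion) hR.flip ‹IsImmersion g›
  obtain ⟨z, hz⟩ := htC
  obtain ⟨r, hr, hrz⟩ := Scheme.exists_preimage_of_isPullback hR t z hz.symm
  obtain ⟨U, q, v, M, hq, hv, -, ⟨β⟩⟩ := hbasis z
  obtain ⟨Q, a₂, b₂, -, hQ, -⟩ := exists_pullback b q
  obtain ⟨q₀, hq₀, -⟩ := Scheme.exists_preimage_of_isPullback hQ r v (hrz.trans hv.symm)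
  haveI := hq
  haveI : AlgebraicGeometry.Etale a₂.left := MorphismProperty.of_isPullback (P := EtCoh.etaleMP.{u}) hQ.flip hq
  let x' := (G F).obj.map (a₂ ≫ a).op x
  let y' := (G F).obj.map (a₂ ≫ a).op y
  have hq₀t : (a₂ ≫ a).left q₀ = t := by rw [comp_left_apply, hq₀, hr]
  obtain ⟨α, hα⟩ := β.exists_near b₂ x' q₀
  obtain ⟨α', hα'⟩ := β.exists_near b₂ y' q₀
  have hαα : α ≠ α' := by
    rintro rfl
    exact hne (hq₀t ▸ EqNear.of_map F (a₂ ≫ a) x y q₀ (eqNear_trans F hα (eqNear_symm F hα')))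
  let N : Set Q.left :=
    {p | EqNear F x' ((G F).obj.map b₂.op (β.Φ α)) p} ∩ {p | EqNear F y' ((G F).obj.map b₂.op (β.Φ α')) p}
  have hN : IsOpen N := (isOpen_eqNear F _ _).inter (isOpen_eqNear F _ _)
  let al : R.left ⟶ T.left := a.left
  have hemb : Topology.IsEmbedding al := al.isEmbedding
  obtain ⟨O, hO, hON⟩ := hemb.isInducing.isOpen_iff.1 (a₂.left.isOpenMap N hN)
  refine ⟨O, hO, ?_, ?_⟩
  · have h1 : r ∈ al ⁻¹' O := hON.symm ▸ ⟨q₀, ⟨hα, hα'⟩, hq₀⟩
    exact (show al r = t from hr) ▸ h1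
  · intro t' ht' ⟨z', hz'⟩ he
    obtain ⟨r', hr', -⟩ := Scheme.exists_preimage_of_isPullback hR t' z' hz'.symm
    have h1 : r' ∈ al ⁻¹' O := by
      show al r' ∈ O
      rw [show al r' = t' from hr']
      exact ht'
    rw [hON] at h1
    obtain ⟨p, ⟨hp, hp'⟩, hpr⟩ := h1
    have hpt : (a₂ ≫ a).left p = t' := by rw [comp_left_apply, hpr, hr']
    have he' := EqNear.map F (a₂ ≫ a) x y p (hpt.symm ▸ he)
    exact hαα (β.eq_of_near b₂ hp (eqNear_trans F he' hp'))

variable (R : Type u) [CommRing R] [HenselianLocalRing R] [IsSepClosed (ResidueField R)]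
  (π : Spec (CommRingCat.of R) ⟶ X)

theorem mem_of_isOpen {O : Set (Spec (CommRingCat.of R))} (hO : IsOpen O) (h : closedPoint R ∈ O)
    (p : Spec (CommRingCat.of R)) : p ∈ O :=
  (IsLocalRing.specializes_closedPoint p).mem_open hO h

theorem eq_of_eqNear_closedPoint (s t : (G F).obj.obj (op (Over.mk π)))
    (h : EqNear F s t (closedPoint R)) : s = t :=
  eq_of_eqNear F s t fun p => mem_of_isOpen R (isOpen_eqNear F s t) h p

/-- Sections near a point of the base come from global sections. -/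
def Full (p : Spec (CommRingCat.of R)) : Prop :=
  ∀ (T : Over X) (f : T ⟶ Over.mk π) (t : T.left), f.left t = p → ∀ y : (G F).obj.obj (op T),
    ∃ s : (G F).obj.obj (op (Over.mk π)), EqNear F ((G F).obj.map f.op s) y t

theorem full_closedPoint : Full (F := F) R π (closedPoint R) := by
  intro T f t ht y
  obtain ⟨T', g, t', V, c, s, hg, ht', hs⟩ := exists_e F y t
  let Vp : (Spec (CommRingCat.of R)).Etale := (EtCoh.bc π).obj V
  let fl : T'.left ⟶ Spec (CommRingCat.of R) := (g ≫ f).left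
  let l : T'.left ⟶ Vp.left := pullback.lift c.left fl ((Over.w c).trans (Over.w (g ≫ f)).symm)
  have hl : l ≫ Vp.hom = fl := pullback.lift_snd _ _ _
  have hfl : fl t' = closedPoint R := by
    show (g ≫ f).left t' = _
    rw [comp_left_apply, ht', ht]
  have hv : Vp.hom.base (l t') = (L27.EtSite.closedPt R).base default := by
    rw [← Scheme.Hom.comp_apply, hl]
    refine hfl.trans (Eq.symm ?_)
    rw [Subsingleton.elim (default : Spec (CommRingCat.of (ResidueField R))) (closedPoint (ResidueField R))]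
    exact IsLocalRing.comap_closedPoint (residue R)
  obtain ⟨y₀, hy₀⟩ := L27.EtSite.exists_fiber (L27.EtSite.closedPt R) Vp (l t') hv
  obtain ⟨σ, hσ⟩ := L27.EtSite.exists_section R Vp y₀
  let σl : Spec (CommRingCat.of R) ⟶ Vp.left := σ.left
  haveI : AlgebraicGeometry.Etale σl := L27.EtSite.etale_left σ
  have hσv : σl (closedPoint R) = l t' := by
    refine Eq.trans ?_ hy₀
    rw [← hσ]
    show _ = (L27.EtSite.closedPt R ≫ σl) default
    rw [Scheme.Hom.comp_apply]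
    refine congrArg σl (Eq.symm ?_)
    rw [Subsingleton.elim (default : Spec (CommRingCat.of (ResidueField R))) (closedPoint (ResidueField R))]
    exact IsLocalRing.comap_closedPoint (residue R)
  have hσs : σl ≫ pullback.snd V.hom π = 𝟙 _ := MorphismProperty.Over.w σ
  let r : Over.mk π ⟶ (EtFppf.a X).obj V := Over.homMk (σl ≫ pullback.fst V.hom π) (by
    show (σl ≫ pullback.fst V.hom π) ≫ V.hom = π
    exact (Category.assoc _ _ _).trans ((congrArg (σl ≫ ·) pullback.condition).trans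
      ((Category.assoc _ _ _).symm.trans ((congrArg (· ≫ π) hσs).trans (Category.id_comp _)))))
  refine ⟨L27.BigSets.e F r s, ?_⟩
  obtain ⟨q, hq, -⟩ := Scheme.Pullback.exists_preimage_pullback (f := l) (g := σl) t' (closedPoint R) hσv.symm
  let Q : Over X := Over.mk (pullback.fst l σl ≫ T'.hom)
  let q₁ : Q ⟶ T' := Over.homMk (pullback.fst l σl) rfl
  haveI := hg
  haveI : AlgebraicGeometry.Etale q₁.left :=
    MorphismProperty.of_isPullback (P := EtCoh.etaleMP.{u}) (IsPullback.of_hasPullback l σl).flip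
      ‹AlgebraicGeometry.Etale σl›
  refine ⟨Q, q₁ ≫ g, q, etale_comp _ _, by rw [comp_left_apply, ← ht']; exact congrArg g.left hq, ?_⟩
  rw [map_comp', ← map_comp' F q₁ g y, hs, e_map, e_map]
  refine congrArg (fun k => L27.BigSets.e F k s) (Over.OverMorphism.ext ?_)
  let p₁ : pullback l σl ⟶ T'.left := pullback.fst l σl
  let p₂ : pullback l σl ⟶ Spec (CommRingCat.of R) := pullback.snd l σl
  have e1 : p₁ ≫ l = p₂ ≫ σl := pullback.condition
  have e2 : p₁ ≫ fl = p₂ := by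
    rw [← hl, reassoc_of% e1]
    exact (congrArg (p₂ ≫ ·) hσs).trans (Category.comp_id _)
  show ((q₁ ≫ g) ≫ f).left ≫ σl ≫ pullback.fst V.hom π = p₁ ≫ c.left
  rw [show ((q₁ ≫ g) ≫ f).left = p₁ ≫ fl from (congrArg (fun k => k.left) (Category.assoc q₁ g f)).trans rfl, e2,
    show c.left = l ≫ pullback.fst V.hom π from (pullback.lift_fst _ _ _).symm]
  exact (Category.assoc _ _ _).symm.trans ((congrArg (· ≫ pullback.fst V.hom π) e1.symm).trans (Category.assoc _ _ _))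

variable {C : Set X}

/-- On a stratum through the closed point, nearness to global sections is locally constant. -/
theorem exists_open_full_iff (hC : Triv F C) [Finite ((G F).obj.obj (op (Over.mk π)))]
    (p : Spec (CommRingCat.of R)) (hp : π p ∈ C) :
    ∃ O : Set (Spec (CommRingCat.of R)), IsOpen O ∧ p ∈ O ∧
      ∀ p' ∈ O, π p' ∈ C → (Full (F := F) R π p ↔ Full (F := F) R π p') := by
  classical
  obtain ⟨Z, g, hg, rfl, hbasis⟩ := hC
  obtain ⟨S, a, b, -, hS, -⟩ := exists_pullback (C := Over.mk (𝟙 X))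
    (Over.homMk π (Category.comp_id _) : Over.mk π ⟶ Over.mk (𝟙 X))
    (Over.homMk g (Category.comp_id _) : Over.mk g ⟶ Over.mk (𝟙 X))
  haveI := hg
  haveI : IsImmersion a.left := MorphismProperty.of_isPullback (P := @IsImmersion) hS.flip ‹IsImmersion g›
  obtain ⟨z, hz⟩ := hp
  obtain ⟨r, hr, hrz⟩ := Scheme.exists_preimage_of_isPullback hS p z hz.symm
  obtain ⟨U, q, v, M, hq, hv, -, ⟨β⟩⟩ := hbasis z
  obtain ⟨Q, a₂, b₂, -, hQ, -⟩ := exists_pullback b q
  obtain ⟨q₀, hq₀, -⟩ := Scheme.exists_preimage_of_isPullback hQ r v (hrz.trans hv.symm)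
  haveI := hq
  haveI : AlgebraicGeometry.Etale a₂.left := MorphismProperty.of_isPullback (P := EtCoh.etaleMP.{u}) hQ.flip hq
  let f := a₂ ≫ a
  -- fullness at the image of a point, read upstairs
  have hfull : ∀ p₁ : Q.left, Full (F := F) R π (f.left p₁) ↔
      ∀ m : M, ∃ s, EqNear F ((G F).obj.map f.op s) ((G F).obj.map b₂.op (β.Φ m)) p₁ := by
    refine fun p₁ => ⟨fun h m => h Q f p₁ rfl _, fun h T f' t ht y => ?_⟩
    obtain ⟨R₂, c₁, c₂, hc, hR₂, -⟩ := exists_pullback f' f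
    obtain ⟨r₂, hr₂, hr₂'⟩ := Scheme.exists_preimage_of_isPullback hR₂ t p₁ ht
    obtain ⟨m, hm⟩ := β.exists_near (c₂ ≫ b₂) ((G F).obj.map c₁.op y) r₂
    obtain ⟨s, hs⟩ := h m
    refine ⟨s, hr₂ ▸ EqNear.of_map F c₁ _ _ r₂ ?_⟩
    have h1 := EqNear.map F c₂ _ _ r₂ (hr₂'.symm ▸ hs)
    rw [map_comp', map_comp', ← hc, ← map_comp' F c₁ f'] at h1
    exact eqNear_trans F h1 (eqNear_symm F hm)
  choose α hα using fun s => β.exists_near b₂ ((G F).obj.map f.op s) q₀
  let N : Set Q.left := ⋂ s, {p₁ | EqNear F ((G F).obj.map f.op s) ((G F).obj.map b₂.op (β.Φ (α s))) p₁}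
  have hN : IsOpen N := isOpen_iInter_of_finite fun s => isOpen_eqNear F _ _
  have hiff : ∀ p₁ ∈ N, (Full (F := F) R π (f.left p₁) ↔ Function.Surjective α) := fun p₁ hp₁ => by
    rw [hfull]
    refine ⟨fun h m => ?_, fun h m => ?_⟩
    · obtain ⟨s, hs⟩ := h m
      exact ⟨s, β.eq_of_near b₂ (Set.mem_iInter.1 hp₁ s) hs⟩
    · obtain ⟨s, rfl⟩ := h m
      exact ⟨s, Set.mem_iInter.1 hp₁ s⟩
  have hq₀N : q₀ ∈ N := Set.mem_iInter.2 hα
  have hq₀p : f.left q₀ = p := by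
    show (a₂ ≫ a).left q₀ = p
    rw [comp_left_apply, hq₀, hr]
  let al : S.left ⟶ Spec (CommRingCat.of R) := a.left
  have hemb : Topology.IsEmbedding al := al.isEmbedding
  obtain ⟨O, hO, hON⟩ := hemb.isInducing.isOpen_iff.1 (a₂.left.isOpenMap N hN)
  refine ⟨O, hO, ?_, ?_⟩
  · have h1 : r ∈ al ⁻¹' O := hON.symm ▸ ⟨q₀, hq₀N, hq₀⟩
    exact (show al r = p from hr) ▸ h1
  · intro p' hp' ⟨z', hz'⟩
    obtain ⟨r', hr', -⟩ := Scheme.exists_preimage_of_isPullback hS p' z' hz'.symm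
    have h1 : r' ∈ al ⁻¹' O := by
      show al r' ∈ O
      rw [show al r' = p' from hr']
      exact hp'
    rw [hON] at h1
    obtain ⟨p₁, hp₁, hpr⟩ := h1
    have hpt : f.left p₁ = p' := by
      show (a₂ ≫ a).left p₁ = p'
      rw [comp_left_apply, hpr, hr']
    rw [← hq₀p, ← hpt, hiff q₀ hq₀N, hiff p₁ hp₁]

theorem finite_sections (hC : Triv F C) (hx : π (closedPoint R) ∈ C) :
    Finite ((G F).obj.obj (op (Over.mk π))) := by
  obtain ⟨Z, g, hg, rfl, hbasis⟩ := hC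
  obtain ⟨z, hz⟩ := hx
  obtain ⟨U, q, v, M, hq, hv, hfin, ⟨β⟩⟩ := hbasis z
  obtain ⟨Q, a, b, -, hQ, -⟩ := exists_pullback (C := Over.mk (𝟙 X))
    (Over.homMk π (Category.comp_id _) : Over.mk π ⟶ Over.mk (𝟙 X))
    (Over.homMk (q.left ≫ g) ((Category.comp_id _).trans (Over.w q)) : U ⟶ Over.mk (𝟙 X))
  obtain ⟨q₀, hq₀, -⟩ := Scheme.exists_preimage_of_isPullback hQ (closedPoint R) v
    (hz.symm.trans (by rw [← hv]; exact (Scheme.Hom.comp_apply q.left g v).symm))
  choose α hα using fun s => β.exists_near b ((G F).obj.map a.op s) q₀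
  refine Finite.of_injective α fun s t hst => eq_of_eqNear_closedPoint R π s t ?_
  exact hq₀ ▸ EqNear.of_map F a s t q₀ (eqNear_trans F (hα s) (eqNear_symm F (hst ▸ hα t)))

variable {M : Scheme.{u}} (h : M ⟶ Spec (CommRingCat.of R))

/-- Sections over `Spec R` are detected on the part of `M` above `W`, and extend from there. -/
def Concl (W : Set X) : Prop :=
  π (closedPoint R) ∈ W → ((h ≫ π) ⁻¹' W).Nonempty ∧
    (∀ s t : (G F).obj.obj (op (Over.mk π)), (∀ m ∈ (h ≫ π) ⁻¹' W,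
      EqNear F ((G F).obj.map (Over.homMk h rfl : Over.mk (h ≫ π) ⟶ Over.mk π).op s)
        ((G F).obj.map (Over.homMk h rfl : Over.mk (h ≫ π) ⟶ Over.mk π).op t) m) → s = t) ∧
    ∀ σ : (G F).obj.obj (op (Over.mk (h ≫ π))), ∃ s : (G F).obj.obj (op (Over.mk π)), ∀ m ∈ (h ≫ π) ⁻¹' W,
      EqNear F ((G F).obj.map (Over.homMk h rfl : Over.mk (h ≫ π) ⟶ Over.mk π).op s) σ m

theorem eq_univ_of_clopen {W : Set X} (hWc : _root_.IsPreconnected ((h ≫ π) ⁻¹' W)) (A : Set M) (hA : IsOpen A)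
    (hne : ((h ≫ π) ⁻¹' W ∩ A).Nonempty)
    (hcl : ∀ m ∈ (h ≫ π) ⁻¹' W, m ∉ A → ∃ O, IsOpen O ∧ m ∈ O ∧ ∀ m' ∈ O, m' ∈ (h ≫ π) ⁻¹' W → m' ∉ A) :
    (h ≫ π) ⁻¹' W ⊆ A := by
  intro m hm
  by_contra hmA
  let B : Set M := ⋃₀ {O | IsOpen O ∧ ∀ m' ∈ O, m' ∈ (h ≫ π) ⁻¹' W → m' ∉ A}
  obtain ⟨w, hwW, hwA, hwB⟩ := hWc A B hA (isOpen_sUnion fun O hO => hO.1)
    (fun w hw => or_iff_not_imp_left.2 fun hwA =>
      let ⟨O, h1, h2, h3⟩ := hcl w hw hwA; ⟨O, ⟨h1, h3⟩, h2⟩)
    hne ⟨m, hm, let ⟨O, h1, h2, h3⟩ := hcl m hm hmA; ⟨O, ⟨h1, h3⟩, h2⟩⟩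
  obtain ⟨O, hO, hwO⟩ := hwB
  exact hO.2 w hwO hwW hwA

/-- The inductive step. -/
theorem concl_step {W W' C : Set X} (hW' : IsClosed W') (hsub : W' ⊆ W) (hWC : W \ W' ⊆ C) (hC : Triv F C)
    (hconn : π (closedPoint R) ∈ W → _root_.IsConnected ((h ≫ π) ⁻¹' W)) (IH : Concl (F := F) R π h W') :
    Concl (F := F) R π h W := by
  intro hx
  obtain ⟨⟨m₀, hm₀⟩, hcon⟩ := hconn hx
  let r : Over.mk (h ≫ π) ⟶ Over.mk π := Over.homMk h rfl
  -- points of `Spec R` over `W` are all outside `W'` if the closed point is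
  have hout : π (closedPoint R) ∉ W' → ∀ p : Spec (CommRingCat.of R), π p ∉ W' := fun hx' p =>
    mem_of_isOpen R (hW'.isOpen_compl.preimage π.continuous) hx' p
  have hin : ∀ m : M, π (h m) ∈ W' → π (closedPoint R) ∈ W' := fun m hm => by
    by_contra hx'
    exact hout hx' _ hm
  refine ⟨⟨m₀, hm₀⟩, fun s t hst => ?_, fun σ => ?_⟩
  · by_cases hx' : π (closedPoint R) ∈ W'
    · exact (IH hx').2.1 s t fun m hm => hst m (hsub hm)
    · refine eq_of_eqNear_closedPoint R π s t ?_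
      have hxC : π (closedPoint R) ∈ C := hWC ⟨hx, hx'⟩
      have h1 : EqNear F s t (h m₀) := EqNear.of_map F r s t m₀ (hst m₀ hm₀)
      by_contra hne
      obtain ⟨O, hO, hxO, hOne⟩ := exists_open_ne hC (T := Over.mk π) s t (closedPoint R) hxC hne
      exact hOne (h m₀) (mem_of_isOpen R hO hxO _) (hWC ⟨hm₀, hout hx' _⟩) h1
  · obtain ⟨s, m₁, hm₁, hA₁, hs⟩ : ∃ s : (G F).obj.obj (op (Over.mk π)), ∃ m₁, m₁ ∈ (h ≫ π) ⁻¹' W ∧
        EqNear F ((G F).obj.map r.op s) σ m₁ ∧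
          (∀ m ∈ (h ≫ π) ⁻¹' W', EqNear F ((G F).obj.map r.op s) σ m) := by
      by_cases hx' : π (closedPoint R) ∈ W'
      · obtain ⟨⟨m₁, hm₁⟩, -, hex⟩ := IH hx'
        obtain ⟨s, hs⟩ := hex σ
        exact ⟨s, m₁, hsub hm₁, hs m₁ hm₁, hs⟩
      · have hxC : π (closedPoint R) ∈ C := hWC ⟨hx, hx'⟩
        haveI := finite_sections R π hC hxC
        obtain ⟨O, hO, hxO, hOf⟩ := exists_open_full_iff R π hC (closedPoint R) hxC
        have hf : Full (F := F) R π (h m₀) := (hOf (h m₀) (mem_of_isOpen R hO hxO _)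
          (hWC ⟨hm₀, hout hx' _⟩)).1 (full_closedPoint R π)
        obtain ⟨s, hs⟩ := hf (Over.mk (h ≫ π)) r m₀ rfl σ
        exact ⟨s, m₀, hm₀, hs, fun m hm => absurd hm (hout hx' _)⟩
    have hA : IsOpen {m : M | EqNear F ((G F).obj.map r.op s) σ m} :=
      isOpen_eqNear F (T := Over.mk (h ≫ π)) ((G F).obj.map r.op s) σ
    refine ⟨s, eq_univ_of_clopen R π h hcon {m | EqNear F ((G F).obj.map r.op s) σ m} hA
      ⟨m₁, hm₁, hA₁⟩ fun m hm hne => ?_⟩
    have hmW' : π (h m) ∉ W' := fun hm' => hne (hs m hm')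
    obtain ⟨O, hO, hmO, hOne⟩ := exists_open_ne hC (T := Over.mk (h ≫ π)) _ σ m (hWC ⟨hm, hmW'⟩) hne
    exact ⟨O ∩ (h ≫ π) ⁻¹' W'ᶜ, hO.inter (hW'.isOpen_compl.preimage (h ≫ π).continuous), ⟨hmO, hmW'⟩,
      fun m' hm' hm'W => hOne m' hm'.1 (hWC ⟨hm'W, hm'.2⟩)⟩

/-- At the whole space, restriction of sections to `M` is bijective. -/
theorem bijective_of_concl (hc : Concl (F := F) R π h Set.univ) :
    Function.Bijective ((G F).obj.map (Over.homMk h rfl : Over.mk (h ≫ π) ⟶ Over.mk π).op) := by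
  obtain ⟨-, hinj, hex⟩ := hc trivial
  refine ⟨fun s t hst => hinj s t fun m _ => eqNear_of_eq F _ _ hst m, fun σ => ?_⟩
  obtain ⟨s, hs⟩ := hex σ
  exact ⟨s, eq_of_eqNear F _ _ fun m => hs m trivial⟩

end Groth.L23.LocAcycSets
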